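import Mathlib

set_option autoImplicit false
universe u
open CategoryTheory AlgebraicGeometry Limits

namespace Groth.Agent.H5.OI

variable {X Y : Scheme.{u}}

/-- Two sections over an open `W` of a separated morphism which agree (as morphisms) on a dense
open of `W` agree pointwise. -/
lemma apply_eq_of_dense_of_isSeparated (f : X ⟶ Y) [IsSeparated f] {W : Scheme.{u}} (p : W ⟶ Y)
    (a b : W ⟶ X) (ha : a ≫ f = p) (hb : b ≫ f = p) (D : W.Opens) (hD : Dense (D : Set W))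
    (hab : D.ι ≫ a = D.ι ≫ b) (w : W) : a w = b w := by
  let X' : Over Y := Over.mk p
  let Y' : Over Y := Over.mk f
  let a' : X' ⟶ Y' := Over.homMk a ha
  let b' : X' ⟶ Y' := Over.homMk b hb
  haveI : IsSeparated Y'.hom := ‹_›
  let D' : Over Y := Over.mk (D.ι ≫ p)
  let ι' : D' ⟶ X' := Over.homMk D.ι rfl
  have hι : ι' ≫ a' = ι' ≫ b' := by ext1; exact hab
  let e := (equalizer.ι a' b').left
  have hfac : (equalizer.lift ι' hι).left ≫ e = D.ι := by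
    rw [← Over.comp_left, equalizer.lift_ι]; rfl
  have hsurj : Set.range e = Set.univ := by
    have hcl : IsClosed (Set.range e) := (Scheme.Hom.isClosedEmbedding e).isClosed_range
    have hsub : (D : Set W) ⊆ Set.range e := by
      intro x hx
      refine ⟨(equalizer.lift ι' hι).left ⟨x, hx⟩, ?_⟩
      rw [← Scheme.Hom.comp_apply, hfac]; rfl
    exact Set.eq_univ_of_univ_subset (hD.closure_eq ▸ hcl.closure_subset_iff.mpr hsub)
  obtain ⟨z, rfl⟩ : w ∈ Set.range e := hsurj ▸ Set.mem_univ w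
  have hcond : e ≫ a = e ≫ b := congr($(equalizer.condition a' b').left)
  rw [← Scheme.Hom.comp_apply, ← Scheme.Hom.comp_apply, hcond]


/-- Key injectivity: if `f` is separated and restricts to open immersions on two dense opens
`U₁`, `U₂`, then `f` is injective on `U₁ ∪ U₂`. -/
lemma eq_of_apply_eq (f : X ⟶ Y) [IsSeparated f] (U₁ U₂ : X.Opens)
    (hd₁ : Dense (U₁ : Set X)) (hd₂ : Dense (U₂ : Set X))
    [h₁ : IsOpenImmersion (U₁.ι ≫ f)] [h₂ : IsOpenImmersion (U₂.ι ≫ f)]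
    {x₁ x₂ : X} (hx₁ : x₁ ∈ U₁) (hx₂ : x₂ ∈ U₂) (hf : f x₁ = f x₂) : x₁ = x₂ := by
  let W : Y.Opens := (U₁.ι ≫ f).opensRange ⊓ (U₂.ι ≫ f).opensRange
  have hW₁ : Set.range W.ι ⊆ Set.range (U₁.ι ≫ f) := by
    rw [Scheme.Opens.range_ι]; exact fun y hy => hy.1
  have hW₂ : Set.range W.ι ⊆ Set.range (U₂.ι ≫ f) := by
    rw [Scheme.Opens.range_ι]; exact fun y hy => hy.2
  let l₁ : W.toScheme ⟶ U₁ := IsOpenImmersion.lift (U₁.ι ≫ f) W.ι hW₁
  let l₂ : W.toScheme ⟶ U₂ := IsOpenImmersion.lift (U₂.ι ≫ f) W.ι hW₂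
  have hl₁ : l₁ ≫ U₁.ι ≫ f = W.ι := IsOpenImmersion.lift_fac _ _ _
  have hl₂ : l₂ ≫ U₂.ι ≫ f = W.ι := IsOpenImmersion.lift_fac _ _ _
  -- the dense open on which the two sections agree
  haveI h₁₂ : IsOpenImmersion ((U₁ ⊓ U₂).ι ≫ f) := by
    rw [← X.homOfLE_ι (inf_le_left : U₁ ⊓ U₂ ≤ U₁), Category.assoc]; infer_instance
  let D : W.toScheme.Opens := W.ι ⁻¹ᵁ ((U₁ ⊓ U₂).ι ≫ f).opensRange
  have hDrange : Set.range (D.ι ≫ W.ι) ⊆ Set.range ((U₁ ⊓ U₂).ι ≫ f) := by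
    rintro _ ⟨d, rfl⟩
    exact d.2
  let b : D.toScheme ⟶ (U₁ ⊓ U₂ : X.Opens) :=
    IsOpenImmersion.lift ((U₁ ⊓ U₂).ι ≫ f) (D.ι ≫ W.ι) hDrange
  have hb : b ≫ (U₁ ⊓ U₂).ι ≫ f = D.ι ≫ W.ι := IsOpenImmersion.lift_fac _ _ _
  have hD₁ : D.ι ≫ l₁ ≫ U₁.ι = b ≫ (U₁ ⊓ U₂).ι := by
    have : D.ι ≫ l₁ = b ≫ X.homOfLE inf_le_left := by
      rw [← cancel_mono (U₁.ι ≫ f)]
      simp only [Category.assoc]
      rw [hl₁, X.homOfLE_ι_assoc, hb]
    rw [← Category.assoc, this, Category.assoc, X.homOfLE_ι]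
  have hD₂ : D.ι ≫ l₂ ≫ U₂.ι = b ≫ (U₁ ⊓ U₂).ι := by
    have : D.ι ≫ l₂ = b ≫ X.homOfLE inf_le_right := by
      rw [← cancel_mono (U₂.ι ≫ f)]
      simp only [Category.assoc]
      rw [hl₂, X.homOfLE_ι_assoc, hb]
    rw [← Category.assoc, this, Category.assoc, X.homOfLE_ι]
  -- density of `D`
  have hDdense : Dense (D : Set W.toScheme) := by
    rw [dense_iff_inter_open]
    rintro N hN ⟨w, hw⟩
    -- `w ∈ W`, so `W.ι w = f u` for some `u ∈ U₁`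
    obtain ⟨u, hu⟩ := hW₁ ⟨w, rfl⟩
    -- the preimage of `W.ι '' N` in `X` under `f` restricted to `U₁`
    have hNo : IsOpen (W.ι '' N) := W.ι.isOpenEmbedding.isOpenMap _ hN
    have hM : IsOpen (U₁.ι '' ((U₁.ι ≫ f) ⁻¹' (W.ι '' N))) :=
      U₁.ι.isOpenEmbedding.isOpenMap _ (hNo.preimage (U₁.ι ≫ f).continuous)
    have hMne : (U₁.ι '' ((U₁.ι ≫ f) ⁻¹' (W.ι '' N))).Nonempty :=
      ⟨U₁.ι u, u, ⟨w, hw, hu.symm⟩, rfl⟩
    obtain ⟨x, ⟨u', ⟨w', hw'N, hw'⟩, rfl⟩, hxU₂⟩ := hd₂.inter_open_nonempty _ hM hMne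
    refine ⟨w', hw'N, ?_⟩
    change W.ι w' ∈ Set.range ((U₁ ⊓ U₂).ι ≫ f)
    rw [hw']
    exact ⟨⟨U₁.ι u', u'.2, hxU₂⟩, rfl⟩
  -- the point of `W` over `f x₁`
  have hyW : f x₁ ∈ W := ⟨⟨⟨x₁, hx₁⟩, rfl⟩, ⟨⟨x₂, hx₂⟩, hf.symm⟩⟩
  let w : W.toScheme := ⟨f x₁, hyW⟩
  have key := apply_eq_of_dense_of_isSeparated f W.ι (l₁ ≫ U₁.ι) (l₂ ≫ U₂.ι)
    (by rw [Category.assoc, hl₁]) (by rw [Category.assoc, hl₂]) D hDdense
    (hD₁.trans hD₂.symm) w
  -- identify the two values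
  have e₁ : (l₁ ≫ U₁.ι) w = x₁ := by
    have h1 : (U₁.ι ≫ f) (l₁ w) = (U₁.ι ≫ f) ⟨x₁, hx₁⟩ := by
      rw [← Scheme.Hom.comp_apply, hl₁]; rfl
    have := (U₁.ι ≫ f).isOpenEmbedding.injective h1
    rw [Scheme.Hom.comp_apply, this]; rfl
  have e₂ : (l₂ ≫ U₂.ι) w = x₂ := by
    have h1 : (U₂.ι ≫ f) (l₂ w) = (U₂.ι ≫ f) ⟨x₂, hx₂⟩ := by
      rw [← Scheme.Hom.comp_apply, hl₂]; exact hf
    have := (U₂.ι ≫ f).isOpenEmbedding.injective h1
    rw [Scheme.Hom.comp_apply, this]; rfl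
  rw [← e₁, ← e₂, key]


theorem isOpenImmersion_of_restrict_dense_opens (f : X ⟶ Y) [IsSeparated f] {ι : Type*}
    (U : ι → X.Opens) (hU : ⨆ i, U i = ⊤) (hd : ∀ i, Dense (U i : Set X))
    (h : ∀ i, IsOpenImmersion ((U i).ι ≫ f)) : IsOpenImmersion f := by
  have hcov : ∀ x : X, ∃ i, x ∈ U i := fun x => by
    have : x ∈ ⨆ i, U i := hU ▸ trivial
    simpa using this
  have hinj : Function.Injective f := by
    intro x₁ x₂ hf
    obtain ⟨i, hi⟩ := hcov x₁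
    obtain ⟨j, hj⟩ := hcov x₂
    haveI := h i
    haveI := h j
    exact eq_of_apply_eq f (U i) (U j) (hd i) (hd j) hi hj hf
  have hopen : IsOpenMap f := by
    intro O hO
    have : f '' O = ⋃ i, ((U i).ι ≫ f) '' ((U i).ι ⁻¹' O) := by
      ext y
      simp only [Set.mem_image, Set.mem_iUnion, Set.mem_preimage]
      constructor
      · rintro ⟨x, hx, rfl⟩
        obtain ⟨i, hi⟩ := hcov x
        exact ⟨i, ⟨x, hi⟩, hx, rfl⟩
      · rintro ⟨i, u, hu, rfl⟩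
        exact ⟨(U i).ι u, hu, rfl⟩
    rw [this]
    exact isOpen_iUnion fun i =>
      (h i).base_open.isOpenMap _ (hO.preimage (U i).ι.continuous)
  have hemb : Topology.IsOpenEmbedding f :=
    .of_continuous_injective_isOpenMap f.continuous hinj hopen
  haveI : ∀ x, IsIso (f.stalkMap x) := by
    intro x
    obtain ⟨i, hi⟩ := hcov x
    haveI := h i
    have h1 : IsIso (((U i).ι ≫ f).stalkMap ⟨x, hi⟩) := inferInstance
    rw [Scheme.Hom.stalkMap_comp] at h1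
    exact (isIso_comp_right_iff (f.stalkMap ((U i).ι ⟨x, hi⟩)) ((U i).ι.stalkMap ⟨x, hi⟩)).mp h1
  exact IsOpenImmersion.of_isIso_stalkMap f hemb

end Groth.Agent.H5.OI
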