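import Mathlib
import Groth.Agent.Lib.Helper5.OI.OI1

set_option autoImplicit false
universe u
open CategoryTheory AlgebraicGeometry Limits

namespace Groth.Agent.H5.OI

variable {X Y : Scheme.{u}}

/-- Key injectivity (immersion version). -/
lemma eq_of_apply_eq_of_isImmersion (f : X ⟶ Y) [IsSeparated f] (U₁ U₂ : X.Opens)
    (hd₂ : Dense (U₂ : Set X))
    [h₁ : IsImmersion (U₁.ι ≫ f)] [h₂ : IsImmersion (U₂.ι ≫ f)]
    {x₁ x₂ : X} (hx₁ : x₁ ∈ U₁) (hx₂ : x₂ ∈ U₂) (hf : f x₁ = f x₂) : x₁ = x₂ := by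
  let T := pullback (U₁.ι ≫ f) (U₂.ι ≫ f)
  let p₁ : T ⟶ U₁ := pullback.fst _ _
  let p₂ : T ⟶ U₂ := pullback.snd _ _
  have hcond : p₁ ≫ U₁.ι ≫ f = p₂ ≫ U₂.ι ≫ f := pullback.condition
  let a : T ⟶ X := p₁ ≫ U₁.ι
  let b : T ⟶ X := p₂ ≫ U₂.ι
  haveI h₁₂ : IsImmersion ((U₁ ⊓ U₂).ι ≫ f) := by
    rw [← X.homOfLE_ι (inf_le_left : U₁ ⊓ U₂ ≤ U₁), Category.assoc]; infer_instance
  -- injectivity of `f` on `U₂`
  have hinj₂ : ∀ u u' : X, u ∈ U₂ → u' ∈ U₂ → f u = f u' → u = u' := by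
    intro u u' hu hu' h
    have : (U₂.ι ≫ f) ⟨u, hu⟩ = (U₂.ι ≫ f) ⟨u', hu'⟩ := h
    exact congrArg Subtype.val ((U₂.ι ≫ f).isEmbedding.injective this)
  have hab : ∀ t : T, f (a t) = f (b t) := fun t => by
    change (p₁ ≫ U₁.ι ≫ f) t = (p₂ ≫ U₂.ι ≫ f) t
    rw [hcond]
  let D : T.Opens := a ⁻¹ᵁ U₂
  have haD : ∀ d : D, a d.1 ∈ U₁ ⊓ U₂ := fun d => ⟨(p₁ d.1).2, d.2⟩
  have hbD : ∀ d : D, b d.1 ∈ U₁ ⊓ U₂ := fun d => by
    have : a d.1 = b d.1 := hinj₂ _ _ d.2 (p₂ d.1).2 (hab d.1)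
    rw [← this]; exact haD d
  let α : D.toScheme ⟶ (U₁ ⊓ U₂ : X.Opens) := IsOpenImmersion.lift (U₁ ⊓ U₂).ι (D.ι ≫ a) (by
    rintro _ ⟨d, rfl⟩
    rw [Scheme.Opens.range_ι]; exact haD d)
  let β : D.toScheme ⟶ (U₁ ⊓ U₂ : X.Opens) := IsOpenImmersion.lift (U₁ ⊓ U₂).ι (D.ι ≫ b) (by
    rintro _ ⟨d, rfl⟩
    rw [Scheme.Opens.range_ι]; exact hbD d)
  have hα : α ≫ (U₁ ⊓ U₂).ι = D.ι ≫ a := IsOpenImmersion.lift_fac _ _ _
  have hβ : β ≫ (U₁ ⊓ U₂).ι = D.ι ≫ b := IsOpenImmersion.lift_fac _ _ _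
  have hαβ : α = β := by
    rw [← cancel_mono ((U₁ ⊓ U₂).ι ≫ f), ← Category.assoc, ← Category.assoc, hα, hβ]
    simp only [a, b, Category.assoc]
    rw [hcond]
  have hDab : D.ι ≫ a = D.ι ≫ b := by rw [← hα, ← hβ, hαβ]
  -- density
  have hDdense : Dense (D : Set T) := by
    rw [dense_iff_inter_open]
    rintro N hN ⟨t, ht⟩
    obtain ⟨N', hN', rfl⟩ := (p₁.isEmbedding.isInducing.isOpen_iff).mp hN
    have hM : IsOpen (U₁.ι '' N') := U₁.ι.isOpenEmbedding.isOpenMap _ hN'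
    obtain ⟨x, ⟨u, huN', rfl⟩, hxU₂⟩ := hd₂.inter_open_nonempty _ hM ⟨_, p₁ t, ht, rfl⟩
    obtain ⟨t', ht'₁, -⟩ := Scheme.Pullback.exists_preimage_pullback (f := U₁.ι ≫ f)
      (g := U₂.ι ≫ f) u ⟨U₁.ι u, hxU₂⟩ rfl
    refine ⟨t', ?_, ?_⟩
    · change p₁ t' ∈ N'
      rw [ht'₁]; exact huN'
    · change U₁.ι (p₁ t') ∈ U₂
      rw [ht'₁]; exact hxU₂
  obtain ⟨t, ht₁, ht₂⟩ := Scheme.Pullback.exists_preimage_pullback (f := U₁.ι ≫ f)
      (g := U₂.ι ≫ f) ⟨x₁, hx₁⟩ ⟨x₂, hx₂⟩ hf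
  have key := apply_eq_of_dense_of_isSeparated f (a ≫ f) a b rfl
    (by simp only [a, b, Category.assoc]; rw [hcond]) D hDdense hDab t
  have e₁ : a t = x₁ := by
    change U₁.ι (p₁ t) = x₁
    rw [ht₁]; rfl
  have e₂ : b t = x₂ := by
    change U₂.ι (p₂ t) = x₂
    rw [ht₂]; rfl
  rw [← e₁, ← e₂, key]


theorem isImmersion_of_restrict_dense_opens (f : X ⟶ Y) [IsSeparated f] {ι : Type*}
    (U : ι → X.Opens) (hU : ⨆ i, U i = ⊤) (hd : ∀ i, Dense (U i : Set X))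
    (h : ∀ i, IsImmersion ((U i).ι ≫ f)) : IsImmersion f := by
  have hcov : ∀ x : X, ∃ i, x ∈ U i := fun x => by
    have : x ∈ ⨆ i, U i := hU ▸ trivial
    simpa using this
  have hinj : Function.Injective f := by
    intro x₁ x₂ hf
    obtain ⟨i, hi⟩ := hcov x₁
    obtain ⟨j, hj⟩ := hcov x₂
    haveI := h i
    haveI := h j
    exact eq_of_apply_eq_of_isImmersion f (U i) (U j) (hd j) hi hj hf
  -- the ranges
  have hrange : ∀ i, Set.range ((U i).ι ≫ f) = f '' (U i : Set X) := by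
    intro i
    ext y
    constructor
    · rintro ⟨u, rfl⟩; exact ⟨u.1, u.2, rfl⟩
    · rintro ⟨x, hx, rfl⟩; exact ⟨⟨x, hx⟩, rfl⟩
  have hclosure : ∀ i, closure (Set.range ((U i).ι ≫ f)) = closure (Set.range f) := by
    intro i
    rw [hrange]
    apply subset_antisymm (closure_mono (Set.image_subset_range _ _))
    rw [← Set.image_univ, ← (hd i).closure_eq]
    exact closure_minimal (image_closure_subset_closure_image f.continuous) isClosed_closure
  let V : ι → Set Y := fun i => coborder (Set.range ((U i).ι ≫ f))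
  have hVo : ∀ i, IsOpen (V i) := fun i =>
    haveI := h i
    ((U i).ι ≫ f).isLocallyClosed_range.isOpen_coborder
  have hVZ : ∀ i, V i ∩ closure (Set.range f) = f '' (U i : Set X) := by
    intro i
    rw [← hclosure i, coborder_inter_closure, hrange]
  have hpre : ∀ i, f ⁻¹' (V i) = (U i : Set X) := by
    intro i
    ext x
    constructor
    · intro hx
      have : f x ∈ V i ∩ closure (Set.range f) := ⟨hx, subset_closure ⟨x, rfl⟩⟩
      rw [hVZ] at this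
      obtain ⟨u, hu, hfu⟩ := this
      rw [← hinj hfu]; exact hu
    · intro hx
      have : f x ∈ V i ∩ closure (Set.range f) := by rw [hVZ]; exact ⟨x, hx, rfl⟩
      exact this.1
  -- locally closed range
  have hlc : IsLocallyClosed (Set.range f) := by
    have : Set.range f = closure (Set.range f) ∩ ⋃ i, V i := by
      ext y
      constructor
      · rintro ⟨x, rfl⟩
        obtain ⟨i, hi⟩ := hcov x
        refine ⟨subset_closure ⟨x, rfl⟩, Set.mem_iUnion.mpr ⟨i, ?_⟩⟩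
        rw [← Set.mem_preimage, hpre]; exact hi
      · rintro ⟨hy, hy'⟩
        obtain ⟨i, hi⟩ := Set.mem_iUnion.mp hy'
        have : y ∈ V i ∩ closure (Set.range f) := ⟨hi, hy⟩
        rw [hVZ] at this
        obtain ⟨u, -, rfl⟩ := this
        exact ⟨u, rfl⟩
    rw [this]
    exact isClosed_closure.isLocallyClosed.inter (isOpen_iUnion hVo).isLocallyClosed
  -- inducing
  have hind : Topology.IsInducing f := by
    rw [Topology.isInducing_iff]
    apply le_antisymm f.continuous.le_induced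
    intro O hO
    rw [isOpen_induced_iff]
    have hOi : ∀ i, ∃ O' : Set Y, IsOpen O' ∧ ((U i).ι ≫ f) ⁻¹' O' = (U i).ι ⁻¹' O := by
      intro i
      haveI := h i
      exact (((U i).ι ≫ f).isEmbedding.isInducing.isOpen_iff).mp (hO.preimage (U i).ι.continuous)
    choose O' hO'o hO' using hOi
    refine ⟨⋃ i, O' i ∩ V i, isOpen_iUnion fun i => (hO'o i).inter (hVo i), ?_⟩
    ext x
    simp only [Set.preimage_iUnion, Set.mem_iUnion, Set.mem_preimage, Set.mem_inter_iff]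
    constructor
    · rintro ⟨i, hx1, hx2⟩
      have hxU : x ∈ U i := by rw [← SetLike.mem_coe, ← hpre]; exact hx2
      have : (⟨x, hxU⟩ : U i) ∈ ((U i).ι ≫ f) ⁻¹' O' i := hx1
      rw [hO'] at this
      exact this
    · intro hx
      obtain ⟨i, hi⟩ := hcov x
      refine ⟨i, ?_, ?_⟩
      · have : (⟨x, hi⟩ : U i) ∈ (U i).ι ⁻¹' O := hx
        rw [← hO'] at this
        exact this
      · rw [← Set.mem_preimage, hpre]; exact hi
  -- surjective on stalks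
  have hstalk : ∀ x, Function.Surjective (f.stalkMap x) := by
    intro x
    obtain ⟨i, hi⟩ := hcov x
    haveI := h i
    have h1 : Function.Surjective (((U i).ι ≫ f).stalkMap ⟨x, hi⟩) :=
      ((U i).ι ≫ f).stalkMap_surjective _
    intro z
    obtain ⟨y, hy⟩ := h1 ((U i).ι.stalkMap ⟨x, hi⟩ z)
    refine ⟨y, ?_⟩
    apply (ConcreteCategory.bijective_of_isIso ((U i).ι.stalkMap ⟨x, hi⟩)).1
    rw [← hy, Scheme.Hom.stalkMap_comp]
    rfl
  exact { stalkMap_surjective := hstalk, isEmbedding := ⟨hind, hinj⟩, isLocallyClosed_range := hlc }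

end Groth.Agent.H5.OI
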